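import Mathlib

/-!
# Elements of order 8 of `GL₂(3)` (helper179)
-/

set_option autoImplicit false
set_option maxRecDepth 100000

namespace Cfsg.Agent.H179.JM.GLThree

/-- a `2 × 2` matrix over `ZMod 3` -/
def mt (a b c d : Fin 3) : Matrix (Fin 2) (Fin 2) (ZMod 3) := fun i j => if i = 0 then (if j = 0 then a else b) else
  (if j = 0 then c else d)

abbrev Q := Fin 3 × Fin 3 × Fin 3 × Fin 3

/-- product -/
def mul (x y : Q) : Q :=
  (x.1 * y.1 + x.2.1 * y.2.2.1, x.1 * y.2.1 + x.2.1 * y.2.2.2,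
    x.2.2.1 * y.1 + x.2.2.2 * y.2.2.1, x.2.2.1 * y.2.1 + x.2.2.2 * y.2.2.2)

def all3 (p : Fin 3 → Bool) : Bool := p 0 && (p 1 && p 2)

theorem all3_iff (p : Fin 3 → Bool) : all3 p = true ↔ ∀ a, p a = true := by
  unfold all3
  rw [Bool.and_eq_true, Bool.and_eq_true]
  constructor
  · rintro ⟨h0, h1, h2⟩ a
    fin_cases a <;> assumption
  · intro h
    exact ⟨h 0, h 1, h 2⟩

def allQ (p : Q → Bool) : Bool := all3 fun a => all3 fun b => all3 fun c => all3 fun d => p (a, b, c, d)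

theorem allQ_iff (p : Q → Bool) : allQ p = true ↔ ∀ x, p x = true := by
  unfold allQ
  simp only [all3_iff]
  constructor
  · rintro h ⟨a, b, c, d⟩
    exact h a b c d
  · intro h a b c d
    exact h _

/-- `x ^ 4 ≠ 1`, `x ^ 8 = 1` -/
def o8 (x : Q) : Bool :=
  (fun x2 => (fun x4 => !(decide (x4 = (1, 0, 0, 1))) && decide (mul x4 x4 = (1, 0, 0, 1))) (mul x2 x2)) (mul x x)

/-- `x ^ 8 = 1` -/
def p8 (x : Q) : Bool :=
  (fun x2 => (fun x4 => decide (mul x4 x4 = (1, 0, 0, 1))) (mul x2 x2)) (mul x x)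

theorem no16 : allQ (fun x => bif decide ((fun y => mul y y) ((fun y => mul y y) ((fun y => mul y y) (mul x x))) =
    (1, 0, 0, 1)) then p8 x else true) = true := by decide +kernel

def chk : Bool := allQ fun x => bif o8 x then (allQ fun y => bif o8 y then bif p8 (mul x y) then
  decide (y = x) || decide (y = mul x (mul x x)) || decide (y = mul (mul x x) (mul x (mul x x))) ||
    decide (y = mul (mul x x) (mul (mul x x) (mul x (mul x x))))
  else true else true) else true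

theorem chk_true : chk = true := by decide +kernel

/-- the code of a matrix -/
def cd (m : Matrix (Fin 2) (Fin 2) (ZMod 3)) : Q := (m 0 0, m 0 1, m 1 0, m 1 1)

theorem cd_mul (m n : Matrix (Fin 2) (Fin 2) (ZMod 3)) : cd (m * n) = mul (cd m) (cd n) := by
  unfold cd mul
  simp only [Matrix.mul_apply, Fin.sum_univ_two]
  rfl

theorem cd_one : cd 1 = (1, 0, 0, 1) := rfl

theorem cd_inj {m n : Matrix (Fin 2) (Fin 2) (ZMod 3)} (h : cd m = cd n) : m = n := by
  have h1 : m 0 0 = n 0 0 := congrArg (fun q : Q => q.1) h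
  have h2 : m 0 1 = n 0 1 := congrArg (fun q : Q => q.2.1) h
  have h3 : m 1 0 = n 1 0 := congrArg (fun q : Q => q.2.2.1) h
  have h4 : m 1 1 = n 1 1 := congrArg (fun q : Q => q.2.2.2) h
  ext i j
  fin_cases i <;> fin_cases j <;> assumption

theorem p8_iff (x : Matrix (Fin 2) (Fin 2) (ZMod 3)) : p8 (cd x) = true ↔ x ^ 8 = 1 := by
  have e : cd (x ^ 8) = mul (mul (mul (cd x) (cd x)) (mul (cd x) (cd x))) (mul (mul (cd x) (cd x)) (mul (cd x) (cd x))) := by
    rw [← cd_mul, ← cd_mul, ← cd_mul]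
    congr 1
    noncomm_ring
  change decide (mul (mul (mul (cd x) (cd x)) (mul (cd x) (cd x))) (mul (mul (cd x) (cd x)) (mul (cd x) (cd x))) =
    (1, 0, 0, 1)) = true ↔ _
  rw [decide_eq_true_eq, ← e, ← cd_one]
  exact ⟨fun h => cd_inj h, fun h => by rw [h]⟩

theorem o8_iff (x : Matrix (Fin 2) (Fin 2) (ZMod 3)) : o8 (cd x) = true ↔ x ^ 4 ≠ 1 ∧ x ^ 8 = 1 := by
  have e : cd (x ^ 4) = mul (mul (cd x) (cd x)) (mul (cd x) (cd x)) := by
    rw [← cd_mul, ← cd_mul]
    congr 1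
    noncomm_ring
  rw [← p8_iff]
  change (!(decide (mul (mul (cd x) (cd x)) (mul (cd x) (cd x)) = (1, 0, 0, 1))) && p8 (cd x)) = true ↔ _
  rw [Bool.and_eq_true, Bool.not_eq_true', decide_eq_false_iff_not, ← e, ← cd_one]
  exact and_congr_left fun _ => not_congr ⟨fun h => cd_inj h, fun h => by rw [h]⟩

/-- `GL₂(3)` has no element of order 16 -/
theorem pow_eight {x : GL (Fin 2) (ZMod 3)} (h : x ^ 16 = 1) : x ^ 8 = 1 := by
  have h1 := no16
  rw [allQ_iff] at h1
  have h2 := h1 (cd x.1)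
  have e : cd (x.1 ^ 16) = (fun y => mul y y) ((fun y => mul y y) ((fun y => mul y y) (mul (cd x.1) (cd x.1)))) := by
    show _ = mul (mul (mul (mul (cd x.1) (cd x.1)) (mul (cd x.1) (cd x.1)))
      (mul (mul (cd x.1) (cd x.1)) (mul (cd x.1) (cd x.1)))) (mul (mul (mul (cd x.1) (cd x.1)) (mul (cd x.1) (cd x.1)))
      (mul (mul (cd x.1) (cd x.1)) (mul (cd x.1) (cd x.1))))
    rw [← cd_mul, ← cd_mul, ← cd_mul, ← cd_mul, ← pow_two, ← pow_two, ← pow_two, ← pow_two, ← pow_mul, ← pow_mul,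
      ← pow_mul]
  have h3 : (decide ((fun y => mul y y) ((fun y => mul y y) ((fun y => mul y y) (mul (cd x.1) (cd x.1)))) =
      ((1, 0, 0, 1) : Q))) = true := by
    rw [decide_eq_true_eq]
    refine e.symm.trans ?_
    rw [← Units.val_pow_eq_pow_val, h]
    rfl
  rw [h3, cond_true, p8_iff] at h2
  exact Units.ext (by rw [Units.val_pow_eq_pow_val, h2]; rfl)

/-- Two elements of order 8 of `GL₂(3)` whose product is a 2-element generate the same subgroup. -/
theorem pow_of {x y : GL (Fin 2) (ZMod 3)} (hx8 : x ^ 8 = 1) (hx4 : x ^ 4 ≠ 1) (hy8 : y ^ 8 = 1) (hy4 : y ^ 4 ≠ 1)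
    (hxy : (x * y) ^ 8 = 1) : ∃ n : ℕ, y = x ^ n := by
  have h := chk_true
  rw [chk, allQ_iff] at h
  have h1 := h (cd x.1)
  have hc : ∀ z : GL (Fin 2) (ZMod 3), z ^ 8 = 1 → z ^ 4 ≠ 1 → o8 (cd z.1) = true := fun z h8 h4 => by
    rw [o8_iff]
    refine ⟨fun h0 => h4 (Units.ext ?_), ?_⟩
    · rw [Units.val_pow_eq_pow_val, h0]; rfl
    · rw [← Units.val_pow_eq_pow_val, h8]; rfl
  rw [hc x hx8 hx4, cond_true, allQ_iff] at h1
  have h2 := h1 (cd y.1)
  have h3 : p8 (mul (cd x.1) (cd y.1)) = true := by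
    rw [← cd_mul, p8_iff, ← Units.val_mul, ← Units.val_pow_eq_pow_val, hxy]
    rfl
  rw [hc y hy8 hy4, cond_true, h3, cond_true] at h2
  simp only [Bool.or_eq_true, decide_eq_true_eq, ← cd_mul] at h2
  rcases h2 with ((h2 | h2) | h2) | h2
  · exact ⟨1, Units.ext (by rw [pow_one]; exact cd_inj h2)⟩
  · exact ⟨3, Units.ext (by rw [Units.val_pow_eq_pow_val, cd_inj h2]; noncomm_ring)⟩
  · exact ⟨5, Units.ext (by rw [Units.val_pow_eq_pow_val, cd_inj h2]; noncomm_ring)⟩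
  · exact ⟨7, Units.ext (by rw [Units.val_pow_eq_pow_val, cd_inj h2]; noncomm_ring)⟩

end Cfsg.Agent.H179.JM.GLThree
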