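import Cfsg.Agent.H179.JM.Forty
import Cfsg.Agent.H179.JM.JEight
import Cfsg.Agent.H188.Der.Sug
import Cfsg.Agent.H860.JM.Basic
import Cfsg.Agent.H860.JM.Cj
import Cfsg.Agent.S5575

/-!
# S5580, Part III: one class of maximal subgroups of `J4` with socle `U₃(11)` (helper179)
-/

set_option autoImplicit false

namespace Cfsg.Agent.H179.JM.UEleven

open Cfsg Subgroup
open Cfsg.Agent.H860.JM (NL OneCl cj)
open Cfsg.Agent.H188.Der (RO exists_ro)

local notation "𝒢" => Cfsg.Spor.J4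

/-- the rank one data of a subgroup `S ≅ U₃(11)` -/
structure Std (S : Subgroup 𝒢) (U : Subgroup 𝒢) (c w : 𝒢) : Prop where
  cardU : Nat.card U = 11 ^ 3
  cN : c ∈ normalizer (U : Set 𝒢)
  oc : orderOf c = 40
  wc : w * c * w⁻¹ = (c ^ 11)⁻¹
  gen : S = U ⊔ zpowers c ⊔ zpowers w

theorem gen_of_ro {T : Type*} [Group T] {B U : Subgroup T} {c w : T} (h : RO T 11 11 40 B U c w) :
    U ⊔ zpowers c ⊔ zpowers w = ⊤ := by
  have hB : B ≤ U ⊔ zpowers c := by
    intro b hb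
    obtain ⟨u, hu, k, rfl⟩ := h.dec b hb
    exact mul_mem (mem_sup_left hu) (pow_mem (mem_sup_right (mem_zpowers c)) k)
  rw [eq_top_iff]
  intro g _
  by_cases hg : g ∈ B
  · exact mem_sup_left (hB hg)
  · obtain ⟨s, hs, h1⟩ := h.data.bruhat g hg
    have h2 : g = (s * w) * ((s * w)⁻¹ * g) := by group
    rw [h2]
    exact mul_mem (mul_mem (mem_sup_left (mem_sup_left hs)) (mem_sup_right (mem_zpowers w))) (mem_sup_left (hB h1))

theorem exists_std {F : Type} [Field F] [Fintype F] (hF : Fintype.card F = 121) {S : Subgroup 𝒢}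
    (e : S ≃* PSU 3 F 11) : ∃ (U : Subgroup 𝒢) (c w : 𝒢), Std S U c w := by
  have f11 : Fact (Nat.Prime 11) := ⟨by norm_num⟩
  have hch : CharP F 11 := by
    obtain ⟨p, hp⟩ := CharP.exists F
    have hpp : p.Prime := CharP.char_is_prime F p
    obtain ⟨n, -, hn⟩ := FiniteField.card F p
    have h1 : p ∣ 11 ^ 2 := by
      rw [show (11 : ℕ) ^ 2 = Fintype.card F by rw [hF]; norm_num, hn]
      exact dvd_pow_self p n.ne_zero
    have h2 : p = 11 := (Nat.prime_dvd_prime_iff_eq hpp f11.out).1 (hpp.dvd_of_dvd_pow h1)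
    rwa [h2] at hp
  obtain ⟨B, U, c, w, h⟩ := exists_ro (p := 11) (q := 11) (F := F) (by rw [hF]; norm_num) (by norm_num)
  rw [show ((11 : ℕ) ^ 2 - 1) / Nat.gcd 3 (11 + 1) = 40 by norm_num] at h
  set φ : PSU 3 F 11 →* 𝒢 := S.subtype.comp e.symm.toMonoidHom with hφ
  have hφi : Function.Injective φ := S.subtype_injective.comp e.symm.injective
  have hφr : (⊤ : Subgroup (PSU 3 F 11)).map φ = S := by
    rw [hφ, ← Subgroup.map_map, Subgroup.map_top_of_surjective _ e.symm.surjective, ← MonoidHom.range_eq_map,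
      S.range_subtype]
  refine ⟨U.map φ, φ c, φ w, ?_, ?_, ?_, ?_, ?_⟩
  · rw [Subgroup.card_map_of_injective hφi, h.cardU]
  · rw [mem_normalizer_iff]
    intro x
    constructor
    · rintro ⟨u, hu, rfl⟩
      exact ⟨c * u * c⁻¹, h.data.norm c h.cB u hu, by rw [map_mul, map_mul, map_inv]⟩
    · rintro ⟨u, hu, hux⟩
      have h1 := h.data.norm c⁻¹ (inv_mem h.cB) u hu
      refine ⟨c⁻¹ * u * c⁻¹⁻¹, h1, ?_⟩
      rw [map_mul, map_mul, map_inv, map_inv, map_inv, hux]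
      group
  · rw [orderOf_injective φ hφi, h.oc]
  · rw [← map_mul, ← map_inv, ← map_mul, h.wc, map_inv, map_pow]
  · rw [← hφr, ← gen_of_ro h, Subgroup.map_sup, Subgroup.map_sup, MonoidHom.map_zpowers, MonoidHom.map_zpowers]

theorem Std.conj {S U : Subgroup 𝒢} {c w : 𝒢} (h : Std S U c w) (g : 𝒢) :
    Std (cj g S) (cj g U) (g * c * g⁻¹) (g * w * g⁻¹) where
  cardU := by rw [Cfsg.Agent.H860.JM.card_cj, h.cardU]
  cN := by
    rw [Cfsg.Agent.H860.JM.normalizer_cj]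
    exact ⟨c, h.cN, rfl⟩
  oc := by
    have : g * c * g⁻¹ = MulAut.conj g c := by rw [MulAut.conj_apply]
    rw [this, (MulAut.conj g).orderOf_eq, h.oc]
  wc := by
    have h1 : g * w * g⁻¹ * (g * c * g⁻¹) * (g * w * g⁻¹)⁻¹ = g * (w * c * w⁻¹) * g⁻¹ := by group
    rw [h1, h.wc, Forty.conj_pow']
    group
  gen := by
    rw [h.gen]
    show Subgroup.map _ _ = _
    rw [Subgroup.map_sup, Subgroup.map_sup, MonoidHom.map_zpowers, MonoidHom.map_zpowers]
    rfl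

instance simple_J4 : IsSimpleGroup 𝒢 := Cfsg.Agent.S1703.result.1

/-- `U` and `⟨c⟩` given -/
theorem eq_of_zpowers {S S' U : Subgroup 𝒢} {c c' w w' : 𝒢} (h : Std S U c w) (h' : Std S' U c' w')
    (hc : c' ∈ zpowers c) : S' = S := by
  have hz : zpowers c' = zpowers c := by
    refine Subgroup.eq_of_le_of_card_ge (zpowers_le.2 hc) ?_
    rw [Nat.card_zpowers, Nat.card_zpowers, h.oc, h'.oc]
  have hc2 : c ∈ zpowers c' := by rw [hz]; exact mem_zpowers c
  obtain ⟨m, hm⟩ := hc2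
  have hm' : c' ^ m = c := hm
  have h1 : w' * c * w'⁻¹ = (c ^ 11)⁻¹ := by
    rw [← hm', ← conj_zpow, h'.wc, inv_zpow, ← zpow_natCast, ← zpow_natCast, ← zpow_mul, ← zpow_mul, mul_comm]
  have h2 : w * c * w⁻¹ = w' * c * w'⁻¹ := by rw [h.wc, h1]
  have h3 : (w⁻¹ * w') * c = c * (w⁻¹ * w') := by
    calc (w⁻¹ * w') * c = w⁻¹ * (w' * c * w'⁻¹) * w' := by group
      _ = w⁻¹ * (w * c * w⁻¹) * w' := by rw [h2]
      _ = c * (w⁻¹ * w') := by group
  have h4 := JEight.cent_forty h.oc h3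
  rw [h'.gen, h.gen, hz]
  apply le_antisymm
  · refine sup_le le_sup_left (zpowers_le.2 ?_)
    have h5 : w' = w * (w⁻¹ * w') := by group
    rw [h5]
    exact mul_mem (mem_sup_right (mem_zpowers w)) (mem_sup_left (mem_sup_right h4))
  · refine sup_le le_sup_left (zpowers_le.2 ?_)
    have h5 : w = w' * (w⁻¹ * w')⁻¹ := by group
    rw [h5]
    exact mul_mem (mem_sup_right (mem_zpowers w')) (inv_mem (mem_sup_left (mem_sup_right h4)))

theorem exists_cj_of_std {S S' U U' : Subgroup 𝒢} {c c' w w' : 𝒢} (h : Std S U c w) (h' : Std S' U' c' w') :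
    ∃ g : 𝒢, S = cj g S' := by
  have f11 : Fact (Nat.Prime 11) := ⟨by norm_num⟩
  have hidx : ∀ {V : Subgroup 𝒢}, Nat.card V = 11 ^ 3 → ¬ 11 ∣ V.index := by
    intro V hV hd
    obtain ⟨j, hj⟩ := hd
    have h2 := V.card_mul_index
    rw [hV, Cfsg.Agent.H858.FixJ4.card_J4, hj] at h2
    omega
  have hpg : ∀ {V : Subgroup 𝒢}, Nat.card V = 11 ^ 3 → IsPGroup 11 V := fun hV => IsPGroup.of_card hV
  obtain ⟨g, hg⟩ := MulAction.exists_smul_eq 𝒢 ((hpg h'.cardU).toSylow (hidx h'.cardU))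
    ((hpg h.cardU).toSylow (hidx h.cardU))
  have hg2 : cj g U' = U := congrArg (fun P : Sylow 11 𝒢 => (P : Subgroup 𝒢)) hg
  have h1 := h'.conj g
  rw [hg2] at h1
  obtain ⟨-, -, -, hN, K, hK, ⟨e⟩⟩ := Cfsg.Agent.S5575.result Cfsg.Agent.H860.JM.nonab Cfsg.Agent.H860.JM.isJ
    ((hpg h.cardU).toSylow (hidx h.cardU))
  obtain ⟨n, hn, hn2⟩ := Forty.conj_forty_in (N := normalizer (U : Set 𝒢)) hN hK e h.cN h1.cN h.oc h1.oc
  have h2 := h1.conj n
  have hnU : cj n U = U := Cfsg.Agent.H860.JM.cj_eq_iff.2 hn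
  rw [hnU] at h2
  refine ⟨n * g, ?_⟩
  rw [← Cfsg.Agent.H860.JM.cj_cj]
  exact (eq_of_zpowers h h2 hn2).symm

/-! ### maximal subgroups -/

theorem normalizer_ne_top {S : Subgroup 𝒢} (h1 : S ≠ ⊥) (h2 : S ≠ ⊤) : normalizer (S : Set 𝒢) ≠ ⊤ := by
  intro h
  have hn : S.Normal := normalizer_eq_top_iff.1 h
  rcases hn.eq_bot_or_eq_top with h3 | h3
  · exact h1 h3
  · exact h2 h3

theorem eq_normalizer {M S : Subgroup 𝒢} (hN : NL M S) : M = normalizer (S : Set 𝒢) := by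
  by_contra h
  refine normalizer_ne_top ?_ ?_ (hN.coatom.2 _ (lt_of_le_of_ne hN.norm h))
  · intro h
    apply hN.nab
    subst h
    exact ⟨⟨fun a b => Subsingleton.elim _ _⟩⟩
  · intro h
    exact hN.coatom.1 (top_le_iff.1 (h ▸ hN.le))

/-- **S5580, Part III, `U₃(11)`**: the maximal subgroups of `J4` with socle `U₃(11)` form one class -/
theorem one_U311 {F : Type} [Field F] [Fintype F] (h : Fintype.card F = 121) : OneCl (Cfsg.PSU 3 F 11) := by
  rintro M S M' S' hN hN' ⟨e⟩ ⟨e'⟩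
  obtain ⟨U, c, w, h1⟩ := exists_std h e
  obtain ⟨U', c', w', h2⟩ := exists_std h e'
  obtain ⟨g, hg⟩ := exists_cj_of_std h2 h1
  refine ⟨g, ?_⟩
  rw [eq_normalizer hN', eq_normalizer hN, ← Cfsg.Agent.H860.JM.normalizer_cj, ← hg]

end Cfsg.Agent.H179.JM.UEleven
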